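import Mathlib.FieldTheory.Perfect
import Mathlib.FieldTheory.KummerPolynomial
import Mathlib.FieldTheory.IntermediateField.Adjoin.Basic
import Mathlib.RingTheory.Localization.FractionRing
import Mathlib.FieldTheory.Tower
import Mathlib.RingTheory.PowerBasis
import Mathlib.Algebra.BigOperators.Field

/-!
# Fields of `p`-rank at most one

* `exists_sum`: if `k` is spanned over `k ^ p` by `1, t, …, t ^ (p - 1)` and `F / k` is finite, then for every `b` in
  `F` which is not a `p`-th power `F` is spanned over `F ^ p` by `1, b, …, b ^ (p - 1)`.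
* `exists_sum_frac`: the fraction field of `k₀[X]`, `k₀` perfect, is such a field (with `t = X`).
-/

set_option autoImplicit false

namespace Groth.Agent.Refuted.K375.PRank

open Polynomial

section Tw

variable (F : Type*) [Field F] (p : ℕ) [hp : Fact p.Prime] [CharP F p]

/-- The field `F`, to be regarded as an `F`-algebra through the Frobenius. -/
@[nolint unusedArguments]
def Tw (F : Type*) (_ : ℕ) : Type _ := F

noncomputable instance : Field (Tw F p) := inferInstanceAs (Field F)

instance : CharP (Tw F p) p := inferInstanceAs (CharP F p)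

noncomputable instance instAlg : Algebra F (Tw F p) := (frobenius F p).toAlgebra

theorem algebraMap_Tw (x : F) : algebraMap F (Tw F p) x = (show Tw F p from x ^ p) := rfl

theorem smul_Tw (a : F) (x : Tw F p) : a • x = (show Tw F p from a ^ p) * x := by
  rw [Algebra.smul_def, algebraMap_Tw]

end Tw

section Count

variable {k F : Type*} [Field k] [Field F] [Algebra k F] (p : ℕ) [hp : Fact p.Prime] [CharP k p] [CharP F p]

theorem finrank_Tw [FiniteDimensional k F] [FiniteDimensional k (Tw k p)] :
    Module.finrank F (Tw F p) = Module.finrank k (Tw k p) := by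
  let i1 : Algebra k (Tw F p) := ((algebraMap F (Tw F p)).comp (algebraMap k F)).toAlgebra
  have h1 : IsScalarTower k F (Tw F p) := IsScalarTower.of_algebraMap_eq' rfl
  let i2 : Algebra (Tw k p) (Tw F p) := inferInstanceAs (Algebra k F)
  have h2 : IsScalarTower k (Tw k p) (Tw F p) := IsScalarTower.of_algebraMap_eq fun x => by
    change (algebraMap k F x) ^ p = algebraMap k F (x ^ p)
    rw [map_pow]
  have h3 : Module.finrank (Tw k p) (Tw F p) = Module.finrank k F := rfl
  have h4 := Module.finrank_mul_finrank k F (Tw F p)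
  have h5 := Module.finrank_mul_finrank k (Tw k p) (Tw F p)
  rw [h3, ← h4, mul_comm] at h5
  exact (Nat.eq_of_mul_eq_mul_left Module.finrank_pos h5).symm

end Count

variable {k F : Type*} [Field k] [Field F] [Algebra k F] (p : ℕ) [hp : Fact p.Prime]

/-- `1, b, …, b ^ (p - 1)` spans `F` over `F ^ p` if `b` is not a `p`-th power and `[F : F ^ p] ≤ p`. -/
theorem exists_sum_of_finrank [CharP F p] (h0 : 0 < Module.finrank F (Tw F p))
    (h : Module.finrank F (Tw F p) ≤ p) (b : F) (hb : ∀ c : F, c ^ p ≠ b) (s : F) :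
    ∃ c : ℕ → F, s = ∑ i ∈ Finset.range p, c i ^ p * b ^ i := by
  have hfin : FiniteDimensional F (Tw F p) := Module.finite_of_finrank_pos h0
  let β : Tw F p := b
  have hirr : Irreducible (X ^ p - C b : F[X]) := X_pow_sub_C_irreducible_of_prime hp.out hb
  have hmin : minpoly F β = X ^ p - C b := by
    refine (minpoly.eq_of_irreducible_of_monic hirr ?_ (monic_X_pow_sub_C b hp.out.ne_zero)).symm
    rw [map_sub, map_pow, aeval_X, aeval_C, algebraMap_Tw]
    exact sub_self _
  have hint : IsIntegral F β := Algebra.IsIntegral.isIntegral β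
  have hdeg : (minpoly F β).natDegree = p := by rw [hmin, natDegree_X_pow_sub_C]
  have htop : IntermediateField.adjoin F {β} = ⊤ := by
    refine IntermediateField.eq_of_le_of_finrank_le le_top ?_
    rw [IntermediateField.finrank_top', IntermediateField.adjoin.finrank hint, hdeg]
    exact h
  have hmem : (show Tw F p from s) ∈ Algebra.adjoin F {β} := by
    rw [← IntermediateField.adjoin_simple_toSubalgebra_of_isAlgebraic hint.isAlgebraic,
      IntermediateField.mem_toSubalgebra, htop]
    trivial
  rw [Algebra.adjoin_singleton_eq_range_aeval] at hmem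
  obtain ⟨q, hq⟩ := hmem
  have hmon : (minpoly F β).Monic := minpoly.monic hint
  have hq' : aeval β (q %ₘ minpoly F β) = (show Tw F p from s) := by
    rw [aeval_modByMonic_eq_self_of_root (minpoly.aeval F β)]
    exact hq
  have hlt : (q %ₘ minpoly F β).natDegree < p :=
    (natDegree_modByMonic_lt _ hmon (minpoly.ne_one F β)).trans_eq hdeg
  rw [aeval_eq_sum_range' hlt] at hq'
  refine ⟨fun i => (q %ₘ minpoly F β).coeff i, hq'.symm.trans ?_⟩
  exact Finset.sum_congr rfl fun i _ => smul_Tw F p _ _

theorem finrank_Tw_le [CharP k p] (t : k) (ht : ∀ s : k, ∃ c : ℕ → k, s = ∑ i ∈ Finset.range p, c i ^ p * t ^ i) :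
    FiniteDimensional k (Tw k p) ∧ Module.finrank k (Tw k p) ≤ p := by
  have htop : Submodule.span k (Set.range fun i : Fin p => (show Tw k p from t ^ (i : ℕ))) = ⊤ := by
    rw [eq_top_iff]
    rintro s -
    obtain ⟨c, hc⟩ := ht s
    have h1 : s = ∑ i : Fin p, c i • (show Tw k p from t ^ (i : ℕ)) := by
      rw [Finset.sum_range] at hc
      refine hc.trans (Finset.sum_congr rfl fun i _ => (smul_Tw k p _ _).symm)
    rw [h1]
    exact Submodule.sum_mem _ fun i _ => Submodule.smul_mem _ _ (Submodule.subset_span ⟨i, rfl⟩)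
  have hfin : FiniteDimensional k (Tw k p) := ⟨⟨(Set.finite_range fun i : Fin p => (show Tw k p from t ^ (i : ℕ))).toFinset, by
    rw [Set.Finite.coe_toFinset, htop]⟩⟩
  refine ⟨hfin, ?_⟩
  have h := finrank_range_le_card (R := k) (M := Tw k p) fun i : Fin p => (show Tw k p from t ^ (i : ℕ))
  rw [Set.finrank, htop, finrank_top, Fintype.card_fin] at h
  exact h

/-- **`p`-rank at most one passes to finite extensions**, in the form of spanning by the powers of any element which is
not a `p`-th power. -/
theorem exists_sum [CharP k p] [CharP F p] [FiniteDimensional k F] (t : k)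
    (ht : ∀ s : k, ∃ c : ℕ → k, s = ∑ i ∈ Finset.range p, c i ^ p * t ^ i) (b : F) (hb : ∀ c : F, c ^ p ≠ b) (s : F) :
    ∃ c : ℕ → F, s = ∑ i ∈ Finset.range p, c i ^ p * b ^ i := by
  obtain ⟨h1, h2⟩ := finrank_Tw_le p t ht
  have h3 := finrank_Tw (k := k) (F := F) p
  refine exists_sum_of_finrank p ?_ (h3.trans_le h2) b hb s
  rw [h3]
  exact Module.finrank_pos

section Frac

variable {k₀ k : Type*} [Field k₀] [Field k] [Algebra k₀[X] k] [IsFractionRing k₀[X] k]

omit [IsFractionRing k₀[X] k] in
theorem exists_sum_poly [CharP k₀ p] [PerfectRing k₀ p] [CharP k p] (f : k₀[X]) :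
    ∃ c : ℕ → k, algebraMap k₀[X] k f = ∑ i ∈ Finset.range p, c i ^ p * (algebraMap k₀[X] k X) ^ i := by
  have hp1 : 1 ≤ p := hp.out.one_lt.le
  induction f using Polynomial.induction_on' with
  | add f g hf hg =>
    obtain ⟨c, hc⟩ := hf
    obtain ⟨d, hd⟩ := hg
    refine ⟨c + d, ?_⟩
    rw [map_add, hc, hd, ← Finset.sum_add_distrib]
    refine Finset.sum_congr rfl fun i _ => ?_
    rw [Pi.add_apply, add_pow_char, add_mul]
  | monomial n a =>
    obtain ⟨b, rfl⟩ : ∃ b, b ^ p = a := (PerfectRing.bijective_frobenius (p := p)).2 a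
    refine ⟨fun i => if i = n % p then algebraMap k₀[X] k (C b * X ^ (n / p)) else 0, ?_⟩
    rw [Finset.sum_eq_single (n % p)]
    · simp only [if_true]
      rw [← map_pow, ← map_pow, ← map_mul, ← C_mul_X_pow_eq_monomial]
      congr 1
      conv_lhs => rw [← Nat.div_add_mod n p]
      rw [mul_pow, ← C_pow, pow_add, ← pow_mul, mul_comm p, mul_assoc]
    · intro i _ hi
      simp only [if_neg hi]
      rw [zero_pow hp.out.ne_zero, zero_mul]
    · intro h
      exact absurd (Finset.mem_range.2 (Nat.mod_lt _ hp.out.pos)) h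

/-- The rational function field over a perfect field is spanned over its `p`-th powers by `1, X, …, X ^ (p - 1)`. -/
theorem exists_sum_frac [CharP k₀ p] [PerfectRing k₀ p] [CharP k p] (s : k) :
    ∃ c : ℕ → k, s = ∑ i ∈ Finset.range p, c i ^ p * (algebraMap k₀[X] k X) ^ i := by
  obtain ⟨f, g, hg, rfl⟩ := IsFractionRing.div_surjective (A := k₀[X]) s
  have hg0 : algebraMap k₀[X] k g ≠ 0 := fun h => nonZeroDivisors.ne_zero hg
    ((IsFractionRing.injective k₀[X] k) (by rw [h, map_zero]))
  obtain ⟨c, hc⟩ := exists_sum_poly (k := k) p (f * g ^ (p - 1))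
  refine ⟨fun i => c i / algebraMap k₀[X] k g, ?_⟩
  have h1 : algebraMap k₀[X] k f / algebraMap k₀[X] k g =
      algebraMap k₀[X] k (f * g ^ (p - 1)) / (algebraMap k₀[X] k g) ^ p := by
    rw [map_mul, map_pow, div_eq_div_iff hg0 (pow_ne_zero _ hg0)]
    conv_lhs => rw [← Nat.sub_add_cancel hp.out.one_lt.le, pow_succ]
    ring
  rw [h1, hc, Finset.sum_div]
  refine Finset.sum_congr rfl fun i _ => ?_
  rw [div_pow]
  ring

end Frac

end Groth.Agent.Refuted.K375.PRank
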